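/-
The point-block graph of a family of sets: adjacency, isomorphisms from set system isomorphisms,
the stabiliser of the extra vertex.
-/
import Mathlib
import Cfsg.Prelude.Def_Sporadic_a
import Cfsg.Agent.Lib.Steiner.Basic

set_option autoImplicit false

namespace Cfsg.Agent.Lib.HSGraph.Basic

open Cfsg
open scoped Pointwise

universe u v

variable {α : Type u} {β : Type v} {B : Set (Finset α)} {B' : Set (Finset β)}

theorem adj_iff {x y : Option (α ⊕ B)} :
    (pointBlockGraph B).Adj x y ↔ x ≠ y ∧ (pointBlockRel B x y ∨ pointBlockRel B y x) :=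
  SimpleGraph.fromRel_adj _ _ _

@[simp] theorem adj_none_inl (a : α) : (pointBlockGraph B).Adj none (some (Sum.inl a)) :=
  adj_iff.mpr ⟨by simp, Or.inl trivial⟩

@[simp] theorem adj_inl_none (a : α) : (pointBlockGraph B).Adj (some (Sum.inl a)) none :=
  (adj_none_inl a).symm

@[simp] theorem not_adj_none_inr (b : B) : ¬ (pointBlockGraph B).Adj none (some (Sum.inr b)) := by
  rw [adj_iff]
  rintro ⟨-, h | h⟩ <;> exact h

@[simp] theorem not_adj_inr_none (b : B) : ¬ (pointBlockGraph B).Adj (some (Sum.inr b)) none :=
  fun h => not_adj_none_inr b h.symm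

@[simp] theorem not_adj_inl_inl (a a' : α) :
    ¬ (pointBlockGraph B).Adj (some (Sum.inl a)) (some (Sum.inl a')) := by
  rw [adj_iff]
  rintro ⟨-, h | h⟩ <;> exact h

@[simp] theorem adj_inl_inr (a : α) (b : B) :
    (pointBlockGraph B).Adj (some (Sum.inl a)) (some (Sum.inr b)) ↔ a ∈ (b : Finset α) := by
  rw [adj_iff]
  constructor
  · rintro ⟨-, h | h⟩
    · exact h
    · exact h.elim
  · intro h
    exact ⟨by simp, Or.inl h⟩

@[simp] theorem adj_inr_inl (a : α) (b : B) :
    (pointBlockGraph B).Adj (some (Sum.inr b)) (some (Sum.inl a)) ↔ a ∈ (b : Finset α) := by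
  rw [SimpleGraph.adj_comm, adj_inl_inr]

@[simp] theorem adj_inr_inr (b c : B) :
    (pointBlockGraph B).Adj (some (Sum.inr b)) (some (Sum.inr c)) ↔
      b ≠ c ∧ Disjoint (b : Finset α) (c : Finset α) := by
  rw [adj_iff]
  constructor
  · rintro ⟨h0, h | h⟩
    · exact ⟨fun h1 => h0 (by rw [h1]), h⟩
    · exact ⟨fun h1 => h0 (by rw [h1]), Disjoint.symm h⟩
  · rintro ⟨h0, h⟩
    refine ⟨?_, Or.inl h⟩
    intro h1
    apply h0
    simpa using h1

variable [DecidableEq β]

/-- The bijection on blocks from an isomorphism of set systems. -/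
noncomputable def blockEquiv (e : α ≃ β) (h : (fun b => b.image e) '' B = B') : ↥B ≃ ↥B' :=
  Equiv.ofBijective (fun b => ⟨b.1.image e, h ▸ Set.mem_image_of_mem _ b.2⟩) (by
    constructor
    · intro b c hbc
      exact Subtype.ext (Finset.image_injective e.injective (congrArg Subtype.val hbc))
    · rintro ⟨c, hc⟩
      rw [← h] at hc
      obtain ⟨b, hb, rfl⟩ := hc
      exact ⟨⟨b, hb⟩, rfl⟩)

@[simp] theorem coe_blockEquiv (e : α ≃ β) (h : (fun b => b.image e) '' B = B') (b : ↥B) :
    ((blockEquiv e h b : ↥B') : Finset β) = (b : Finset α).image e := rfl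

/-- An isomorphism of set systems gives an isomorphism of graphs. -/
noncomputable def isoOfEquiv (e : α ≃ β) (h : (fun b => b.image e) '' B = B') :
    pointBlockGraph B ≃g pointBlockGraph B' where
  toEquiv := Equiv.optionCongr (Equiv.sumCongr e (blockEquiv e h))
  map_rel_iff' := by
    classical
    rintro (_ | a | b) (_ | a' | b')
    · simp
    · simp
    · simp
    · simp
    · simp
    · simp [Finset.mem_image]
    · simp
    · simp [Finset.mem_image]
    · simp only [Equiv.optionCongr_apply, Option.map_some, Equiv.sumCongr_apply, Sum.map_inr,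
        adj_inr_inr, coe_blockEquiv, Finset.disjoint_image e.injective]
      simp only [ne_eq, EmbeddingLike.apply_eq_iff_eq]

@[simp] theorem isoOfEquiv_none (e : α ≃ β) (h : (fun b => b.image e) '' B = B') :
    isoOfEquiv e h none = none := rfl

@[simp] theorem isoOfEquiv_inl (e : α ≃ β) (h : (fun b => b.image e) '' B = B') (a : α) :
    isoOfEquiv e h (some (Sum.inl a)) = some (Sum.inl (e a)) := rfl

@[simp] theorem isoOfEquiv_inr (e : α ≃ β) (h : (fun b => b.image e) '' B = B') (b : ↥B) :
    isoOfEquiv e h (some (Sum.inr b)) = some (Sum.inr (blockEquiv e h b)) := rfl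

/-! ## Automorphisms fixing the extra vertex -/

section Stab

variable (φ : pointBlockGraph B ≃g pointBlockGraph B) (hφ : φ none = none)

include hφ

theorem exists_inl (a : α) : ∃ a', φ (some (Sum.inl a)) = some (Sum.inl a') := by
  have h : (pointBlockGraph B).Adj (φ none) (φ (some (Sum.inl a))) :=
    φ.map_rel_iff.mpr (adj_none_inl a)
  rw [hφ] at h
  rcases hx : φ (some (Sum.inl a)) with _ | a' | b
  · rw [hx] at h
    exact absurd h (SimpleGraph.irrefl _)
  · exact ⟨a', rfl⟩
  · rw [hx] at h
    exact absurd h (not_adj_none_inr b)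

theorem exists_inr (b : B) : ∃ c, φ (some (Sum.inr b)) = some (Sum.inr c) := by
  have h : ¬ (pointBlockGraph B).Adj (φ none) (φ (some (Sum.inr b))) := fun h' =>
    not_adj_none_inr b (φ.map_rel_iff.mp h')
  rw [hφ] at h
  rcases hx : φ (some (Sum.inr b)) with _ | a' | c
  · have : (some (Sum.inr b) : Option (α ⊕ B)) = none := φ.injective (by rw [hx, hφ])
    simp at this
  · rw [hx] at h
    exact absurd (adj_none_inl a') h
  · exact ⟨c, rfl⟩

omit hφ in
theorem symm_none (hφ : φ none = none) : φ.symm none = none := by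
  conv_lhs => rw [← hφ]
  exact φ.symm_apply_apply _

/-- The function on points of an automorphism fixing the extra vertex. -/
noncomputable def ptFun (a : α) : α := (exists_inl φ hφ a).choose

omit [DecidableEq β] in
theorem ptFun_spec (a : α) : φ (some (Sum.inl a)) = some (Sum.inl (ptFun φ hφ a)) :=
  (exists_inl φ hφ a).choose_spec

/-- The permutation of points of an automorphism fixing the extra vertex. -/
noncomputable def ptPerm : Equiv.Perm α where
  toFun := ptFun φ hφ
  invFun := ptFun φ.symm (symm_none φ hφ)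
  left_inv := by
    intro a
    have h1 := ptFun_spec φ.symm (symm_none φ hφ) (ptFun φ hφ a)
    rw [← ptFun_spec φ hφ a, RelIso.symm_apply_apply] at h1
    simpa using h1.symm
  right_inv := by
    intro a
    have h1 := ptFun_spec φ hφ (ptFun φ.symm (symm_none φ hφ) a)
    rw [← ptFun_spec φ.symm (symm_none φ hφ) a, RelIso.apply_symm_apply] at h1
    simpa using h1.symm

omit [DecidableEq β] in
theorem ptPerm_inl (a : α) : φ (some (Sum.inl a)) = some (Sum.inl (ptPerm φ hφ a)) :=
  ptFun_spec φ hφ a

theorem ptPerm_inr [DecidableEq α] {b c : B} (h : φ (some (Sum.inr b)) = some (Sum.inr c)) :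
    (c : Finset α) = (b : Finset α).image (ptPerm φ hφ) := by
  ext x
  obtain ⟨a, rfl⟩ := (ptPerm φ hφ).surjective x
  rw [(ptPerm φ hφ).injective.mem_finset_image, ← adj_inl_inr, ← adj_inl_inr,
    ← ptPerm_inl φ hφ, ← h]
  exact φ.map_rel_iff

end Stab

variable [DecidableEq α]

theorem smul_eq_image (π : Equiv.Perm α) (b : Finset α) : π • b = b.image π := rfl

theorem mem_setSystemAut {π : Equiv.Perm α} :
    π ∈ setSystemAut B ↔ (fun b => b.image π) '' B = B := by
  rw [MulAction.mem_stabilizer_iff]
  rfl

/-- An element of the automorphism group of the set system as an automorphism of the graph. -/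
noncomputable def autOf (π : setSystemAut B) : pointBlockGraph B ≃g pointBlockGraph B :=
  isoOfEquiv π.1 (mem_setSystemAut.mp π.2)

theorem ptPerm_mem (φ : pointBlockGraph B ≃g pointBlockGraph B) (hφ : φ none = none)
    [Finite α] : ptPerm φ hφ ∈ setSystemAut B := by
  rw [mem_setSystemAut]
  have hsub : (fun b => b.image (ptPerm φ hφ)) '' B ⊆ B := by
    rintro _ ⟨b, hb, rfl⟩
    obtain ⟨c, hc⟩ := exists_inr φ hφ ⟨b, hb⟩
    have h1 := ptPerm_inr φ hφ hc
    simp only at h1 ⊢
    rw [← h1]
    exact c.2
  apply Set.eq_of_subset_of_ncard_le hsub _ (Set.toFinite _)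
  rw [Set.ncard_image_of_injective _ (Finset.image_injective (ptPerm φ hφ).injective)]

/-- The action of automorphisms of a graph on the vertices. -/
@[reducible] def autAct {V : Type*} (G : SimpleGraph V) : MulAction (G ≃g G) V where
  smul φ v := φ v
  one_smul _ := rfl
  mul_smul _ _ _ := rfl

/-- The stabiliser of the extra vertex has the order of the automorphism group of the system. -/
theorem card_stabilizer_none [Finite α] :
    letI := autAct (pointBlockGraph B)
    Nat.card (MulAction.stabilizer (pointBlockGraph B ≃g pointBlockGraph B)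
      (none : Option (α ⊕ B))) = Nat.card (setSystemAut B) := by
  let _ := autAct (pointBlockGraph B)
  have hmem : ∀ φ : pointBlockGraph B ≃g pointBlockGraph B,
      φ ∈ MulAction.stabilizer (pointBlockGraph B ≃g pointBlockGraph B) (none : Option (α ⊕ B)) ↔
        φ none = none := fun φ => MulAction.mem_stabilizer_iff
  let f : setSystemAut B → MulAction.stabilizer (pointBlockGraph B ≃g pointBlockGraph B)
      (none : Option (α ⊕ B)) := fun π => ⟨autOf π, (hmem _).mpr rfl⟩
  have hf : Function.Bijective f := by
    constructor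
    · intro π π' h
      apply Subtype.ext
      ext a
      have h1 : autOf π (some (Sum.inl a)) = autOf π' (some (Sum.inl a)) := by
        rw [show autOf π = (f π).1 from rfl, show autOf π' = (f π').1 from rfl, h]
      simpa [autOf] using h1
    · rintro ⟨φ, hφ⟩
      have hφ' : φ none = none := (hmem φ).mp hφ
      refine ⟨⟨ptPerm φ hφ', ptPerm_mem φ hφ'⟩, ?_⟩
      apply Subtype.ext
      show autOf _ = φ
      apply RelIso.ext
      rintro (_ | a | b)
      · exact hφ'.symm
      · exact (ptPerm_inl φ hφ' a).symm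
      · obtain ⟨c, hc⟩ := exists_inr φ hφ' b
        rw [hc]
        show some (Sum.inr _) = _
        congr 2
        exact Subtype.ext (ptPerm_inr φ hφ' hc).symm
  exact (Nat.card_congr (Equiv.ofBijective f hf)).symm

/-- **The order of the automorphism group of the graph**, given the order of the automorphism group
of the system, its 3-transitivity, and an automorphism moving the extra vertex to a block and this
block to a point. -/
theorem card_aut [Fintype α] (hα : Fintype.card α = 22) (hB : IsSteinerSystem 3 6 B)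
    (hcard : Nat.card (setSystemAut B) = 887040)
    (h3 : MulAction.IsMultiplyPretransitive (setSystemAut B) α 3)
    (τ : pointBlockGraph B ≃g pointBlockGraph B) {b₀ : B} {a₀ : α}
    (h1 : τ none = some (Sum.inr b₀)) (h2 : τ (some (Sum.inr b₀)) = some (Sum.inl a₀)) :
    Nat.card (pointBlockGraph B ≃g pointBlockGraph B) = 88704000 := by
  classical
  let _ := autAct (pointBlockGraph B)
  -- transitivity on points
  have h1' : MulAction.IsMultiplyPretransitive (setSystemAut B) α 1 :=
    MulAction.isMultiplyPretransitive_of_le (n := 3) (by norm_num) (by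
      rw [Nat.card_eq_fintype_card, hα]; norm_num)
  have htr : MulAction.IsPretransitive (setSystemAut B) α :=
    MulAction.is_one_pretransitive_iff.mp h1'
  have hpt : ∀ a, ∃ π : setSystemAut B, π.1 a₀ = a := by
    intro a
    obtain ⟨π, hπ⟩ := MulAction.exists_smul_eq (setSystemAut B) a₀ a
    exact ⟨π, hπ⟩
  -- transitivity on blocks
  have hbl : ∀ c : B, ∃ π : setSystemAut B, (b₀ : Finset α).image π.1 = c := by
    intro c
    have hemb : ∀ s : Finset α, s.card = 6 → ∃ y : Fin 3 ↪ α, ∀ i, y i ∈ s := by
      intro s hs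
      obtain ⟨t, hts, ht⟩ := Finset.exists_subset_card_eq (show 3 ≤ s.card by omega)
      let e := t.equivFinOfCardEq ht
      exact ⟨⟨fun i => (e.symm i).1, fun a b hab => e.symm.injective (Subtype.ext hab)⟩,
        fun i => hts (e.symm i).2⟩
    obtain ⟨x, hx⟩ := hemb b₀ (hB.1 _ b₀.2)
    obtain ⟨y, hy⟩ := hemb c (hB.1 _ c.2)
    obtain ⟨π, hπ⟩ := MulAction.exists_smul_eq (setSystemAut B) x y
    refine ⟨π, ?_⟩
    have hπ' : ∀ i, π.1 (x i) = y i := fun i => congrArg (fun f : Fin 3 ↪ α => f i) hπ
    have hin : (b₀ : Finset α).image π.1 ∈ B :=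
      Eq.subset (mem_setSystemAut.mp π.2) (Set.mem_image_of_mem _ b₀.2)
    obtain ⟨d, -, hd⟩ := hB.2 (Finset.univ.image y) (by
      rw [Finset.card_image_of_injective _ y.injective]
      simp)
    rw [hd _ ⟨hin, ?_⟩, hd _ ⟨c.2, ?_⟩]
    · intro z hz
      obtain ⟨i, -, rfl⟩ := Finset.mem_image.mp hz
      exact hy i
    · intro z hz
      obtain ⟨i, -, rfl⟩ := Finset.mem_image.mp hz
      rw [← hπ' i]
      exact Finset.mem_image_of_mem _ (hx i)
  -- the orbit
  have horb : MulAction.orbit (pointBlockGraph B ≃g pointBlockGraph B) (none : Option (α ⊕ B)) =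
      Set.univ := by
    apply Set.eq_univ_of_forall
    rintro (_ | a | c)
    · exact MulAction.mem_orbit_self _
    · obtain ⟨π, hπ⟩ := hpt a
      refine ⟨autOf π * τ * τ, ?_⟩
      show autOf π (τ (τ none)) = _
      rw [h1, h2]
      show some (Sum.inl (π.1 a₀)) = _
      rw [hπ]
    · obtain ⟨π, hπ⟩ := hbl c
      refine ⟨autOf π * τ, ?_⟩
      show autOf π (τ none) = _
      rw [h1]
      show some (Sum.inr _) = _
      congr 2
      exact Subtype.ext hπ
  have hncard : B.ncard = 77 := by
    have h := Cfsg.Agent.Lib.Steiner.Basic.ncard_mul_choose hB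
    rw [hα] at h
    have h6 : Nat.choose 6 3 = 20 := by decide
    have h22 : Nat.choose 22 3 = 1540 := by decide
    rw [h6, h22] at h
    omega
  have hV : Nat.card (Option (α ⊕ B)) = 100 := by
    have : Fintype ↥B := Fintype.ofFinite _
    rw [Nat.card_eq_fintype_card, Fintype.card_option, Fintype.card_sum, hα,
      ← Nat.card_eq_fintype_card, Nat.card_coe_set_eq, hncard]
  have hi := Subgroup.card_mul_index
    (MulAction.stabilizer (pointBlockGraph B ≃g pointBlockGraph B) (none : Option (α ⊕ B)))
  rw [MulAction.index_stabilizer, horb, Set.ncard_univ, hV, card_stabilizer_none, hcard] at hi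
  omega

end Cfsg.Agent.Lib.HSGraph.Basic
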