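/-
The standard system S(3,6,22) and its point-block graph on 100 vertices in a form that the kernel
can compute with.
-/
import Cfsg.Agent.Lib.HSGraph.Basic
import Cfsg.Agent.Lib.SteinerSearch.S3622
import Cfsg.Agent.Lib.PermComp.Core

set_option autoImplicit false

namespace Cfsg.Agent.Lib.HSGraph.Std

open Cfsg Cfsg.Agent.Lib.SteinerSearch.Core Cfsg.Agent.Lib.SteinerSearch.S3622
  Cfsg.Agent.Lib.HSGraph.Basic
open scoped Pointwise

/-- The standard system. -/
def B₀ : Set (Finset (Fin 22)) := mset 22 '' {m | m ∈ S3622Std}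

/-- The vertices of the standard graph. -/
abbrev V₀ := Option (Fin 22 ⊕ ↥B₀)

/-- The standard graph. -/
abbrev G₀ : SimpleGraph V₀ := pointBlockGraph B₀

/-- List lookup with the default value `63`. -/
def lk (l : List ℕ) : ℕ → ℕ :=
  List.rec (fun _ => 63) (fun h _ ih c => Nat.rec h (fun n _ => ih n) c) l

theorem lk_cons (h : ℕ) (t : List ℕ) (c : ℕ) : lk (h :: t) (c + 1) = lk t c := rfl

theorem lk_mem (l : List ℕ) (c : ℕ) : lk l c ∈ l ∨ lk l c = 63 := by
  induction l generalizing c with
  | nil => exact Or.inr rfl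
  | cons h t ih =>
    cases c with
    | zero => exact Or.inl List.mem_cons_self
    | succ n =>
      rw [lk_cons]
      rcases ih n with h1 | h1
      · exact Or.inl (List.mem_cons_of_mem _ h1)
      · exact Or.inr h1

theorem lk_getElem (l : List ℕ) {c : ℕ} (hc : c < l.length) : lk l c = l[c] := by
  induction l generalizing c with
  | nil => simp at hc
  | cons h t ih =>
    cases c with
    | zero => rfl
    | succ n =>
      rw [lk_cons, List.getElem_cons_succ]
      exact ih (by simpa using hc)

/-- The mask of the block numbered `i`. -/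
def mk (i : ℕ) : ℕ := lk S3622Std (Nat.sub i 23)

theorem std63 : 63 ∈ S3622Std := by decide +kernel

theorem mk_mem (i : ℕ) : mk i ∈ S3622Std := by
  rcases lk_mem S3622Std (Nat.sub i 23) with h | h
  · exact h
  · unfold mk
    rw [h]
    exact std63

theorem std_lt : ∀ m ∈ S3622Std, m < 2 ^ 22 := by decide +kernel

theorem std_nodup : S3622Std.Nodup := by decide +kernel

theorem std_len : S3622Std.length = 77 := by decide +kernel

theorem mk_lt (i : ℕ) : mk i < 2 ^ 22 := std_lt _ (mk_mem i)

theorem mem_B₀ (i : ℕ) : mset 22 (mk i) ∈ B₀ := ⟨_, mk_mem i, rfl⟩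

/-- The vertex numbered `i`. -/
noncomputable def vtx (i : ℕ) : V₀ :=
  if i = 0 then none
  else if h : i ≤ 22 then some (Sum.inl ⟨i - 1, by omega⟩)
  else some (Sum.inr ⟨mset 22 (mk i), mem_B₀ i⟩)

theorem vtx_zero : vtx 0 = none := rfl

theorem vtx_pt {i : ℕ} (h1 : 1 ≤ i) (h2 : i ≤ 22) :
    vtx i = some (Sum.inl ⟨i - 1, by omega⟩) := by
  unfold vtx
  rw [if_neg (by omega), dif_pos h2]

theorem vtx_bl {i : ℕ} (h : 23 ≤ i) : vtx i = some (Sum.inr ⟨mset 22 (mk i), mem_B₀ i⟩) := by
  unfold vtx
  rw [if_neg (by omega), dif_neg (by omega)]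

theorem vtx_inj {i j : ℕ} (hi : i < 100) (hj : j < 100) (h : vtx i = vtx j) : i = j := by
  rcases Nat.eq_zero_or_pos i with rfl | hi0
  · rcases Nat.eq_zero_or_pos j with rfl | hj0
    · rfl
    · exfalso
      rw [vtx_zero] at h
      by_cases hj2 : j ≤ 22
      · rw [vtx_pt hj0 hj2] at h
        simp at h
      · rw [vtx_bl (by omega)] at h
        simp at h
  · by_cases hi2 : i ≤ 22
    · rw [vtx_pt hi0 hi2] at h
      rcases Nat.eq_zero_or_pos j with rfl | hj0
      · rw [vtx_zero] at h
        simp at h
      · by_cases hj2 : j ≤ 22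
        · rw [vtx_pt hj0 hj2] at h
          simp only [Option.some.injEq, Sum.inl.injEq, Fin.mk.injEq] at h
          omega
        · rw [vtx_bl (by omega)] at h
          simp at h
    · rw [vtx_bl (by omega)] at h
      rcases Nat.eq_zero_or_pos j with rfl | hj0
      · rw [vtx_zero] at h
        simp at h
      · by_cases hj2 : j ≤ 22
        · rw [vtx_pt hj0 hj2] at h
          simp at h
        · rw [vtx_bl (by omega)] at h
          simp only [Option.some.injEq, Sum.inr.injEq, Subtype.mk.injEq] at h
          have h1 := mset_injOn (mk_lt i) (mk_lt j) h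
          have hg : ∀ (k : ℕ) (_ : 23 ≤ k) (hk2 : k < 100),
              mk k = S3622Std[k - 23]'(by rw [std_len]; omega) :=
            fun k h1 h2 => lk_getElem _ _
          rw [hg i (by omega) hi, hg j (by omega) hj] at h1
          have h2 := (List.Nodup.getElem_inj_iff std_nodup).mp h1
          omega

theorem vtx_surj (x : V₀) : ∃ i, i < 100 ∧ vtx i = x := by
  rcases x with _ | a | ⟨b, hb⟩
  · exact ⟨0, by norm_num, rfl⟩
  · refine ⟨a.1 + 1, by omega, ?_⟩
    rw [vtx_pt (by omega) (by omega)]
    rfl
  · obtain ⟨m, hm, rfl⟩ := hb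
    obtain ⟨k, hk, rfl⟩ := List.mem_iff_getElem.mp hm
    have hk' : k < 77 := by rwa [std_len] at hk
    refine ⟨23 + k, by omega, ?_⟩
    rw [vtx_bl (by omega)]
    have : mk (23 + k) = S3622Std[k] := by
      unfold mk
      have h2 : Nat.sub (23 + k) 23 = k := Nat.add_sub_cancel_left 23 k
      rw [h2]
      exact lk_getElem _ _
    simp only [this]
    rfl

/-- The numbering of the vertices. -/
noncomputable def e₀ : V₀ ≃ Fin 100 :=
  (Equiv.ofBijective (fun i : Fin 100 => vtx i) ⟨fun i j h => Fin.ext (vtx_inj i.2 j.2 h), fun x => by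
    obtain ⟨i, hi, h⟩ := vtx_surj x
    exact ⟨⟨i, hi⟩, h⟩⟩).symm

theorem e₀_vtx {i : ℕ} (hi : i < 100) : ((e₀ (vtx i) : Fin 100) : ℕ) = i := by
  have : e₀ (vtx i) = ⟨i, hi⟩ := by
    apply Equiv.symm_apply_eq _ |>.mpr
    rfl
  rw [this]

theorem vtx_e₀ (x : V₀) : vtx ((e₀ x : Fin 100) : ℕ) = x :=
  Equiv.apply_symm_apply (Equiv.ofBijective (fun i : Fin 100 => vtx i) _) x

/-! ## Adjacency as a Boolean function -/

/-- The relation on numbers. -/
def relB (i j : ℕ) : Bool :=
  cond (Nat.beq i 0) (cond (Nat.ble 1 j) (Nat.ble j 22) false)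
    (cond (Nat.ble i 22) (cond (Nat.ble 23 j) (Nat.testBit (mk j) (Nat.sub i 1)) false)
      (cond (Nat.ble 23 j) (Nat.beq (Nat.land (mk i) (mk j)) 0) false))

/-- Adjacency on numbers. -/
def adjB (i j : ℕ) : Bool := cond (Nat.beq i j) false (cond (relB i j) true (relB j i))

theorem disjoint_mset {a b : ℕ} (ha : a < 2 ^ 22) :
    Disjoint (mset 22 a) (mset 22 b) ↔ Nat.land a b = 0 := by
  rw [Finset.disjoint_left]
  constructor
  · intro h
    apply Nat.eq_of_testBit_eq
    intro k
    show (a &&& b).testBit k = _
    rw [Nat.testBit_and, Nat.zero_testBit]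
    by_cases hk : k < 22
    · cases h1 : a.testBit k with
      | false => rfl
      | true =>
        have h2 := h (a := ⟨k, hk⟩) (mem_mset.mpr h1)
        rw [mem_mset] at h2
        simpa using h2
    · have : a.testBit k = false := Nat.testBit_eq_false_of_lt
        (lt_of_lt_of_le ha (Nat.pow_le_pow_right (by norm_num) (by omega)))
      rw [this]
      rfl
  · intro h x hx hx'
    rw [mem_mset] at hx hx'
    have h1 : (a &&& b).testBit x.1 = true := by
      rw [Nat.testBit_and, hx, hx']
      rfl
    have h2 : a &&& b = 0 := h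
    rw [h2] at h1
    simp at h1

theorem rel_vtx (i j : ℕ) : pointBlockRel B₀ (vtx i) (vtx j) ↔ relB i j = true := by
  rcases Nat.eq_zero_or_pos i with rfl | hi0
  · rw [vtx_zero]
    rcases Nat.eq_zero_or_pos j with rfl | hj0
    · rw [vtx_zero]
      simp [pointBlockRel, relB]
    · by_cases hj2 : j ≤ 22
      · rw [vtx_pt hj0 hj2]
        have h1 : Nat.ble 1 j = true := Nat.ble_eq_true_of_le hj0
        have h2 : Nat.ble j 22 = true := Nat.ble_eq_true_of_le hj2
        simp [pointBlockRel, relB, h1, h2]
      · rw [vtx_bl (by omega)]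
        have h2 : Nat.ble j 22 = false := by
          rw [← Bool.not_eq_true, Nat.ble_eq]
          omega
        simp [pointBlockRel, relB, h2]
  · have hb : Nat.beq i 0 = false := by
      rw [← Bool.not_eq_true, Nat.beq_eq]
      omega
    by_cases hi2 : i ≤ 22
    · rw [vtx_pt hi0 hi2]
      have h1 : Nat.ble i 22 = true := Nat.ble_eq_true_of_le hi2
      rcases Nat.eq_zero_or_pos j with rfl | hj0
      · rw [vtx_zero]
        simp [pointBlockRel, relB, hb, h1]
      · by_cases hj2 : j ≤ 22
        · rw [vtx_pt hj0 hj2]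
          have h2 : Nat.ble 23 j = false := by
            rw [← Bool.not_eq_true, Nat.ble_eq]
            omega
          simp [pointBlockRel, relB, hb, h1, h2]
        · rw [vtx_bl (by omega)]
          have h2 : Nat.ble 23 j = true := Nat.ble_eq_true_of_le (by omega)
          simp only [pointBlockRel, relB, hb, h1, h2, cond_false, cond_true, mem_mset]
          rfl
    · rw [vtx_bl (by omega)]
      have h1 : Nat.ble i 22 = false := by
        rw [← Bool.not_eq_true, Nat.ble_eq]
        omega
      rcases Nat.eq_zero_or_pos j with rfl | hj0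
      · rw [vtx_zero]
        simp [pointBlockRel, relB, hb, h1]
      · by_cases hj2 : j ≤ 22
        · rw [vtx_pt hj0 hj2]
          have h2 : Nat.ble 23 j = false := by
            rw [← Bool.not_eq_true, Nat.ble_eq]
            omega
          simp [pointBlockRel, relB, hb, h1, h2]
        · rw [vtx_bl (by omega)]
          have h2 : Nat.ble 23 j = true := Nat.ble_eq_true_of_le (by omega)
          simp only [pointBlockRel, relB, hb, h1, h2, cond_false, cond_true]
          rw [disjoint_mset (mk_lt i)]
          constructor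
          · intro h
            rw [h]
            rfl
          · intro h
            exact Nat.eq_of_beq_eq_true h

theorem adj_vtx {i j : ℕ} (hi : i < 100) (hj : j < 100) :
    G₀.Adj (vtx i) (vtx j) ↔ adjB i j = true := by
  rw [adj_iff, rel_vtx, rel_vtx]
  unfold adjB
  by_cases hij : i = j
  · subst hij
    rw [Nat.beq_refl]
    simp
  · have h1 : Nat.beq i j = false := by
      rw [← Bool.not_eq_true, Nat.beq_eq]
      exact hij
    rw [h1, cond_false]
    have h2 : vtx i ≠ vtx j := fun h => hij (vtx_inj hi hj h)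
    cases h3 : relB i j <;> simp [h2]

/-! ## Automorphisms from codes -/

open Cfsg.Agent.Lib.PermComp.Core in
/-- The test that a code preserves adjacency. -/
noncomputable def autCheck (c : ℕ) : Bool :=
  List.rec true (fun i _ ih =>
    cond (List.rec true (fun j _ ih' =>
      cond (cond (adjB (app 7 127 c i) (app 7 127 c j)) (adjB i j) (cond (adjB i j) false true))
        ih' false) (List.range 100)) ih false) (List.range 100)

theorem autCheck_spec {c : ℕ} (h : autCheck c = true) {i j : ℕ} (hi : i < 100) (hj : j < 100) :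
    adjB (Cfsg.Agent.Lib.PermComp.Core.app 7 127 c i) (Cfsg.Agent.Lib.PermComp.Core.app 7 127 c j) =
      adjB i j := by
  have key : ∀ (p : ℕ → ℕ → Bool) (l : List ℕ),
      (List.rec true (fun i _ ih =>
        cond (List.rec true (fun j _ ih' => cond (p i j) ih' false) l) ih false) l : Bool) = true →
      ∀ i ∈ l, ∀ j ∈ l, p i j = true := by
    intro p l hl i hi j hj
    have h1 : ∀ (l' : List ℕ), (List.rec true (fun i _ ih =>
        cond (List.rec true (fun j _ ih' => cond (p i j) ih' false) l) ih false) l' : Bool) = true →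
        ∀ i ∈ l', (List.rec true (fun j _ ih' => cond (p i j) ih' false) l : Bool) = true := by
      intro l'
      induction l' with
      | nil => simp
      | cons a t ih =>
        intro h x hx
        simp only at h
        cases h2 : (List.rec true (fun j _ ih' => cond (p a j) ih' false) l : Bool) with
        | false => rw [h2] at h; exact absurd h (by simp)
        | true =>
          rw [h2, cond_true] at h
          rcases List.mem_cons.mp hx with rfl | hx
          · exact h2
          · exact ih h x hx
    have h2 : ∀ (x : ℕ) (l' : List ℕ), (List.rec true (fun j _ ih' => cond (p x j) ih' false) l' : Bool) = true →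
        ∀ j ∈ l', p x j = true := by
      intro x l'
      induction l' with
      | nil => simp
      | cons a t ih =>
        intro h y hy
        simp only at h
        cases h3 : p x a with
        | false => rw [h3] at h; exact absurd h (by simp)
        | true =>
          rw [h3, cond_true] at h
          rcases List.mem_cons.mp hy with rfl | hy
          · exact h3
          · exact ih h y hy
    exact h2 i l (h1 l hl i hi) j hj
  have h1 := key (fun i j => cond (adjB (Cfsg.Agent.Lib.PermComp.Core.app 7 127 c i)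
    (Cfsg.Agent.Lib.PermComp.Core.app 7 127 c j)) (adjB i j) (cond (adjB i j) false true))
    (List.range 100) h i (List.mem_range.mpr hi) j (List.mem_range.mpr hj)
  revert h1
  cases adjB (Cfsg.Agent.Lib.PermComp.Core.app 7 127 c i) (Cfsg.Agent.Lib.PermComp.Core.app 7 127 c j) <;>
    cases adjB i j <;> simp

open Cfsg.Agent.Lib.PermComp.Core in
/-- A permutation represented by a code passing the test preserves adjacency. -/
theorem rep_adj {c : ℕ} {σ : Equiv.Perm V₀} (hr : Rep 7 127 e₀ c σ) (h : autCheck c = true) (x y : V₀) :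
    G₀.Adj (σ x) (σ y) ↔ G₀.Adj x y := by
  have hx : ∀ z : V₀, ((e₀ (σ z) : Fin 100) : ℕ) = app 7 127 c (e₀ z : Fin 100) := fun z => (hr z).symm
  conv_lhs => rw [← vtx_e₀ (σ x), ← vtx_e₀ (σ y)]
  conv_rhs => rw [← vtx_e₀ x, ← vtx_e₀ y]
  rw [adj_vtx (e₀ (σ x)).2 (e₀ (σ y)).2, adj_vtx (e₀ x).2 (e₀ y).2, hx, hx,
    autCheck_spec h (e₀ x).2 (e₀ y).2]

/-- The automorphism of a permutation preserving adjacency. -/
def isoOfPerm (σ : Equiv.Perm V₀) (h : ∀ x y, G₀.Adj (σ x) (σ y) ↔ G₀.Adj x y) : G₀ ≃g G₀ where
  toEquiv := σ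
  map_rel_iff' := h _ _

end Cfsg.Agent.Lib.HSGraph.Std
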