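/-
The order of the automorphism group of the point-block graph of S(3,6,22).
-/
import Cfsg.Agent.Lib.HSGraph.Std
import Cfsg.Agent.Lib.PermComp.Simple
import Cfsg.Agent.Lib.SteinerUniq.Final

set_option autoImplicit false

namespace Cfsg.Agent.Lib.HSGraph.Card

open Cfsg Cfsg.Agent.Lib.HSGraph.Basic Cfsg.Agent.Lib.HSGraph.Std
  Cfsg.Agent.Lib.SteinerSearch.Core Cfsg.Agent.Lib.SteinerSearch.S3622
  Cfsg.Agent.Lib.PermComp

/-- The identity code on 100 points with seven bits per value. -/
def idc100 : ℕ := 4100094770554042515533122004313285236735003534074830538881045787921142082201184208296423565880205964959118971074454247199955378650214568923506906026203450061729621922836307612900092799561144844784840892852764800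

/-- An automorphism of the standard graph. -/
def tauC : ℕ := 3904145838004393958229554967833058856930146655265847712790251885840072437662281317759972962862927739354788636385303711916216524894466404732317575787697553959926330032664031270206560457448141393337352030340360855

theorem idc100_ok : ∀ i < 100, Core.app 7 127 idc100 i = i := by decide +kernel

theorem tauC_valid : Simple.validB 100 7 127 idc100 tauC = true := by decide +kernel

theorem tauC_aut : autCheck tauC = true := by decide +kernel

theorem tauC_0 : Core.app 7 127 tauC 0 = 23 := by decide +kernel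

theorem tauC_23 : Core.app 7 127 tauC 23 = 22 := by decide +kernel

/-- An automorphism moving the extra vertex to a block and this block to a point. -/
theorem exists_tau₀ : ∃ (τ : G₀ ≃g G₀) (b : ↥B₀) (a : Fin 22),
    τ none = some (Sum.inr b) ∧ τ (some (Sum.inr b)) = some (Sum.inl a) := by
  obtain ⟨σ, hσ⟩ : ∃ σ : Equiv.Perm V₀, Core.Rep 7 127 e₀ tauC σ :=
    Simple.exists_rep_of_valid (by norm_num) idc100_ok tauC_valid
  refine ⟨isoOfPerm σ (rep_adj hσ tauC_aut), ⟨mset 22 (mk 23), mem_B₀ 23⟩, ⟨21, by norm_num⟩, ?_, ?_⟩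
  · show σ none = _
    have h1 := hσ none
    have h2 : ((e₀ none : Fin 100) : ℕ) = 0 := e₀_vtx (i := 0) (by norm_num)
    rw [h2, tauC_0] at h1
    have h3 := vtx_e₀ (σ none)
    rw [← h1, vtx_bl (by norm_num)] at h3
    exact h3.symm
  · show σ (some (Sum.inr ⟨mset 22 (mk 23), mem_B₀ 23⟩)) = _
    have e1 : (some (Sum.inr ⟨mset 22 (mk 23), mem_B₀ 23⟩) : V₀) = vtx 23 :=
      (vtx_bl (by norm_num)).symm
    rw [e1]
    have h1 := hσ (vtx 23)
    rw [e₀_vtx (by norm_num), tauC_23] at h1
    have h3 := vtx_e₀ (σ (vtx 23))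
    rw [← h1, vtx_pt (by norm_num) (by norm_num)] at h3
    exact h3.symm

/-- **The order of the automorphism group of the point-block graph.** -/
theorem main {α : Type*} [Fintype α] [DecidableEq α] (hα : Fintype.card α = 22)
    {B : Set (Finset α)} (hB : IsSteinerSystem 3 6 B) :
    Nat.card (pointBlockGraph B ≃g pointBlockGraph B) = 88704000 := by
  obtain ⟨hcard, h3, -⟩ := Cfsg.Agent.Lib.SteinerUniq.Final.aut22 hα hB
  let e1 : α ≃ Fin 22 := Fintype.equivFinOfCardEq hα
  obtain ⟨σ, hσ⟩ := exists_perm (Cfsg.Agent.Lib.SteinerSearch.Uniq.isSteiner_map e1 hB)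
  let e : α ≃ Fin 22 := e1.trans σ
  have he : (fun b => b.image e) '' B = B₀ := by
    rw [show B₀ = mset 22 '' {m | m ∈ S3622Std} from rfl, ← hσ, Set.image_image]
    apply Set.image_congr
    intro b _
    exact (Cfsg.Agent.Lib.SteinerSearch.Uniq.image_comp_equiv e1 σ b).symm
  let E := isoOfEquiv e he
  obtain ⟨τ₀, b₀, a₀, h1, h2⟩ := exists_tau₀
  obtain ⟨b, hb⟩ := (blockEquiv e he).surjective b₀
  refine card_aut hα hB hcard h3 (E.trans (τ₀.trans E.symm)) (b₀ := b) (a₀ := e.symm a₀) ?_ ?_
  · show E.symm (τ₀ (E none)) = _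
    rw [isoOfEquiv_none, h1, ← hb, ← isoOfEquiv_inr, RelIso.symm_apply_apply]
  · show E.symm (τ₀ (E (some (Sum.inr b)))) = _
    rw [isoOfEquiv_inr, hb, h2]
    have : (some (Sum.inl a₀) : V₀) = E (some (Sum.inl (e.symm a₀))) := by
      rw [isoOfEquiv_inl, Equiv.apply_symm_apply]
    rw [this, RelIso.symm_apply_apply]

end Cfsg.Agent.Lib.HSGraph.Card
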